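import Mathlib.AlgebraicGeometry.Morphisms.Etale
import Mathlib.AlgebraicGeometry.Morphisms.FlatMono
import Mathlib.AlgebraicGeometry.Morphisms.ClosedImmersion
import Mathlib.RingTheory.RingHom.StandardSmooth

/-!
# Extending morphisms to smooth schemes on etale neighbourhoods
-/

set_option autoImplicit false
set_option linter.all false
set_option maxHeartbeats 1000000
set_option backward.isDefEq.respectTransparency false

universe u

open AlgebraicGeometry CategoryTheory Limits TopologicalSpace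

namespace GrothLib.ExtEt6

theorem exists_coordinates {R C : CommRingCat.{u}} (φ : R ⟶ C) (h : φ.hom.IsStandardSmooth) :
    ∃ (n : ℕ) (g : CommRingCat.of (MvPolynomial (Fin n) R) ⟶ C),
      g.hom.Etale ∧ ∀ r, g.hom (MvPolynomial.C r) = φ.hom r := by
  letI := φ.hom.toAlgebra
  obtain ⟨ι, σ, _, _, ⟨P⟩⟩ := (show Algebra.IsStandardSmooth R C from h).out
  haveI : Algebra.IsStandardSmoothOfRelativeDimension P.dimension R C :=
    ⟨ι, σ, inferInstance, inferInstance, P, rfl⟩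
  obtain ⟨g, hg⟩ :=
    Algebra.IsStandardSmoothOfRelativeDimension.exists_etale_mvPolynomial P.dimension R C
  exact ⟨P.dimension, CommRingCat.ofHom g.toRingHom, hg, fun r => g.commutes r⟩

theorem isOpenImmersion_of_comp {A B C : Scheme.{u}} (s : A ⟶ B) (t : B ⟶ C) [FormallyUnramified t]
    [LocallyOfFiniteType t] [IsOpenImmersion (s ≫ t)] : IsOpenImmersion s :=
  haveI : MorphismProperty.HasOfPostcompProperty @IsOpenImmersion
      (MorphismProperty.diagonal @IsOpenImmersion : MorphismProperty Scheme.{u}) :=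
    MorphismProperty.hasOfPostcompProperty_iff_le_diagonal.2 le_rfl
  MorphismProperty.of_postcomp (W := @IsOpenImmersion)
    (W' := MorphismProperty.diagonal @IsOpenImmersion)
    s t (inferInstanceAs (IsOpenImmersion (pullback.diagonal t))) ‹_›

theorem exists_extension {S S₀ X Y : Scheme.{u}} (i : S₀ ⟶ S) [IsClosedImmersion i]
    (p : X ⟶ S) (q : Y ⟶ S) [Smooth q] (f₀ : pullback p i ⟶ Y)
    (hf₀ : f₀ ≫ q = pullback.fst p i ≫ p) (x₀ : ↥(pullback p i)) :
    ∃ (U : Scheme.{u}) (e : U ⟶ X) (f : U ⟶ Y), Etale e ∧ f ≫ q = e ≫ p ∧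
      IsOpenImmersion (pullback.snd e (pullback.fst p i)) ∧
      x₀ ∈ Set.range (pullback.snd e (pullback.fst p i)).base ∧
      pullback.snd e (pullback.fst p i) ≫ f₀ = pullback.fst e (pullback.fst p i) ≫ f := by
  set i' : pullback p i ⟶ X := pullback.fst p i
  obtain ⟨V, hV, Y1, hY1, hy, e1, hstd⟩ := Smooth.exists_isStandardSmooth q (f₀ x₀)
  obtain ⟨n, g, hget, hgC⟩ := exists_coordinates _ hstd
  obtain ⟨O', hO', hOO'⟩ :=
    i'.isClosedEmbedding.isInducing.isOpen_iff.mp (f₀ ⁻¹ᵁ Y1).isOpen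
  have hxO : i' x₀ ∈ (⟨O', hO'⟩ : X.Opens) ⊓ p ⁻¹ᵁ V := by
    constructor
    · show x₀ ∈ i' ⁻¹' O'
      rw [hOO']; exact hy
    · show p (i' x₀) ∈ V
      rw [← Scheme.Hom.comp_apply, ← hf₀, Scheme.Hom.comp_apply]
      exact e1 hy
  obtain ⟨W, hW, hxW, hWle⟩ := exists_isAffineOpen_mem_and_subset hxO
  have hWV : W ≤ p ⁻¹ᵁ V := fun z hz => (hWle hz).2
  set W₀ : (pullback p i).Opens := i' ⁻¹ᵁ W
  have hW₀ : IsAffineOpen W₀ := hW.preimage i'
  have hW₀Y : W₀ ≤ f₀ ⁻¹ᵁ Y1 := fun z hz => by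
    show z ∈ ((f₀ ⁻¹ᵁ Y1 : (pullback p i).Opens) : Set ↥(pullback p i))
    rw [← hOO']
    exact (hWle hz).1
  let ρ : Γ(X, W) ⟶ Γ(pullback p i, W₀) := i'.appLE W W₀ le_rfl
  let ψ : Γ(Y, Y1) ⟶ Γ(pullback p i, W₀) := f₀.appLE Y1 W₀ hW₀Y
  have hρ : Function.Surjective ρ.hom := by
    show Function.Surjective (i'.appLE W (i' ⁻¹ᵁ W) le_rfl).hom
    rw [← Scheme.Hom.app_eq_appLE]
    exact i'.app_surjective W hW
  choose a ha using fun j => hρ (ψ.hom (g.hom (MvPolynomial.X j)))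
  let θ : CommRingCat.of (MvPolynomial (Fin n) Γ(S, V)) ⟶ Γ(X, W) :=
    CommRingCat.ofHom (MvPolynomial.eval₂Hom (p.appLE V W hWV).hom a)
  have hθρ : θ ≫ ρ = g ≫ ψ := by
    refine CommRingCat.hom_ext (MvPolynomial.ringHom_ext (fun r => ?_) fun j => ?_)
    · show ρ.hom (MvPolynomial.eval₂Hom (p.appLE V W hWV).hom a (MvPolynomial.C r)) =
        ψ.hom (g.hom (MvPolynomial.C r))
      rw [MvPolynomial.eval₂Hom_C, hgC]
      refine congrArg (fun k => k.hom r) (show p.appLE V W hWV ≫ ρ = q.appLE V Y1 e1 ≫ ψ from ?_)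
      rw [Scheme.Hom.appLE_comp_appLE, Scheme.Hom.appLE_comp_appLE]
      congr 1
      exact hf₀.symm
    · show ρ.hom (MvPolynomial.eval₂Hom (p.appLE V W hWV).hom a (MvPolynomial.X j)) =
        ψ.hom (g.hom (MvPolynomial.X j))
      rw [MvPolynomial.eval₂Hom_X', ha]
  haveI : Etale (Spec.map g) := (HasRingHomProperty.Spec_iff (P := @Etale)).mpr hget
  let U₀ := pullback (Spec.map θ) (Spec.map g)
  let e0 : U₀ ⟶ X := pullback.fst (Spec.map θ) (Spec.map g) ≫ hW.fromSpec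
  let f0 : U₀ ⟶ Y := pullback.snd (Spec.map θ) (Spec.map g) ≫ hY1.fromSpec
  haveI : Etale e0 := inferInstance
  have hC1 : CommRingCat.ofHom MvPolynomial.C ≫ θ = p.appLE V W hWV :=
    CommRingCat.hom_ext (RingHom.ext fun r => MvPolynomial.eval₂Hom_C _ _ r)
  have hC2 : CommRingCat.ofHom MvPolynomial.C ≫ g = q.appLE V Y1 e1 :=
    CommRingCat.hom_ext (RingHom.ext hgC)
  have hover : f0 ≫ q = e0 ≫ p := by
    simp only [e0, f0, Category.assoc]
    rw [← hV.SpecMap_appLE_fromSpec q hY1 e1, ← hV.SpecMap_appLE_fromSpec p hW hWV, ← hC1, ← hC2,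
      Spec.map_comp, Spec.map_comp, Category.assoc, Category.assoc, pullback.condition_assoc]
  let w₀ : Spec Γ(pullback p i, W₀) ⟶ pullback p i := hW₀.fromSpec
  have hw1 : Spec.map ρ ≫ hW.fromSpec = w₀ ≫ i' := hW.SpecMap_appLE_fromSpec i' hW₀ le_rfl
  have hw2 : Spec.map ψ ≫ hY1.fromSpec = w₀ ≫ f₀ := hY1.SpecMap_appLE_fromSpec f₀ hW₀ hW₀Y
  let s : Spec Γ(pullback p i, W₀) ⟶ U₀ := pullback.lift (Spec.map ρ) (Spec.map ψ)
    (by rw [← Spec.map_comp, ← Spec.map_comp, hθρ])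
  have hs1 : s ≫ e0 = w₀ ≫ i' := by simp [s, e0, hw1]
  have hs2 : s ≫ f0 = w₀ ≫ f₀ := by simp [s, f0, hw2]
  let P := pullback e0 i'
  let σ : Spec Γ(pullback p i, W₀) ⟶ P := pullback.lift s w₀ hs1
  haveI : IsClosedImmersion (pullback.fst e0 i') := MorphismProperty.pullback_fst _ _ inferInstance
  haveI : Etale (pullback.snd e0 i') := MorphismProperty.pullback_snd _ _ inferInstance
  haveI : IsOpenImmersion (σ ≫ pullback.snd e0 i') := by
    rw [pullback.lift_snd]; infer_instance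
  haveI : IsOpenImmersion σ := isOpenImmersion_of_comp σ (pullback.snd e0 i')
  have hsnd : Set.range (pullback.snd e0 i') ⊆ Set.range w₀ := by
    rintro _ ⟨z, rfl⟩
    show _ ∈ Set.range hW₀.fromSpec
    rw [hW₀.range_fromSpec]
    show i' (pullback.snd e0 i' z) ∈ W
    rw [← Scheme.Hom.comp_apply, ← pullback.condition, Scheme.Hom.comp_apply]
    show _ ∈ (W : Set X)
    rw [← hW.range_fromSpec]
    exact ⟨_, (Scheme.Hom.comp_apply _ _ _).symm⟩
  let t : P ⟶ Spec Γ(pullback p i, W₀) := IsOpenImmersion.lift w₀ _ hsnd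
  have ht : t ≫ w₀ = pullback.snd e0 i' := IsOpenImmersion.lift_fac ..
  haveI : IsSeparated t := by
    haveI : IsSeparated (pullback.snd e0 i') := MorphismProperty.pullback_snd _ _ inferInstance
    haveI : IsSeparated (t ≫ w₀) := by rw [ht]; infer_instance
    exact IsSeparated.of_comp t w₀
  have hσt : σ ≫ t = 𝟙 _ := by
    rw [← cancel_mono w₀, Category.assoc, ht, pullback.lift_snd, Category.id_comp]
  haveI : IsClosedImmersion (σ ≫ t) := by rw [hσt]; infer_instance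
  haveI : IsClosedImmersion σ := IsClosedImmersion.of_comp σ t
  let U : U₀.Opens := ⟨((pullback.fst e0 i') '' (Set.range σ)ᶜ)ᶜ,
    ((pullback.fst e0 i').isClosedEmbedding.isClosedMap _
      σ.isOpenEmbedding.isOpen_range.isClosed_compl).isOpen_compl⟩
  refine ⟨U, U.ι ≫ e0, U.ι ≫ f0, inferInstance, (Category.assoc _ _ _).trans ((congrArg (U.ι ≫ ·) hover).trans (Category.assoc _ _ _).symm),
    ?_, ?_, ?_⟩
  all_goals
    let m : pullback (U.ι ≫ e0) i' ⟶ P :=
      pullback.lift (pullback.fst _ _ ≫ U.ι) (pullback.snd _ _)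
        (by rw [Category.assoc, pullback.condition])
    have hm : Set.range m ⊆ Set.range σ := by
      rintro _ ⟨z, rfl⟩
      by_contra hz
      have h1 : pullback.fst e0 i' (m z) = U.ι (pullback.fst (U.ι ≫ e0) i' z) := by
        rw [← Scheme.Hom.comp_apply, ← Scheme.Hom.comp_apply, pullback.lift_fst]
      exact (pullback.fst (U.ι ≫ e0) i' z).2 ⟨m z, hz, h1⟩
    let τ := IsOpenImmersion.lift σ m hm
    have hτ : τ ≫ σ = m := IsOpenImmersion.lift_fac ..
    have hτ2 : τ ≫ w₀ = pullback.snd (U.ι ≫ e0) i' := by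
      have := congrArg (· ≫ pullback.snd e0 i') hτ
      simpa [σ, m] using this
  · haveI : Mono (pullback.snd (U.ι ≫ e0) i') := ⟨fun a b hab => by
      have h1 : a ≫ τ = b ≫ τ := by
        rw [← cancel_mono w₀, Category.assoc, Category.assoc, hτ2, hab]
      refine pullback.hom_ext ?_ hab
      rw [← cancel_mono U.ι]
      have := congrArg (· ≫ σ ≫ pullback.fst e0 i') h1
      simpa [reassoc_of% hτ, m] using this⟩
    haveI : Etale (pullback.snd (U.ι ≫ e0) i') :=
      MorphismProperty.pullback_snd _ _ inferInstance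
    exact IsOpenImmersion.of_flat_of_mono _
  · have hsU : Set.range s ⊆ Set.range U.ι := by
      rintro _ ⟨z, rfl⟩
      rw [Scheme.Opens.range_ι]
      rintro ⟨y, hy', hyz⟩
      refine hy' ⟨z, (pullback.fst e0 i').isClosedEmbedding.injective ?_⟩
      rw [hyz, ← Scheme.Hom.comp_apply, pullback.lift_fst]
    let z : Spec Γ(pullback p i, W₀) ⟶ pullback (U.ι ≫ e0) i' :=
      pullback.lift (IsOpenImmersion.lift U.ι s hsU) w₀ (by rw [IsOpenImmersion.lift_fac_assoc, hs1])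
    obtain ⟨v, hv⟩ : x₀ ∈ Set.range hW₀.fromSpec := by
      rw [hW₀.range_fromSpec]; exact hxW
    refine ⟨z v, ?_⟩
    rw [← Scheme.Hom.comp_apply, pullback.lift_snd]
    exact hv
  · have h1 := congrArg (· ≫ pullback.fst e0 i' ≫ f0) hτ
    have h2 : τ ≫ s ≫ f0 = pullback.fst (U.ι ≫ e0) i' ≫ U.ι ≫ f0 := by
      simpa [σ, m] using h1
    rw [← hτ2, Category.assoc, ← hs2, h2]

end GrothLib.ExtEt6
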